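import Groth.Agent.Lib.OX.StupidGE
import Mathlib.Algebra.Homology.HomologicalComplexAbelian

/-! # The subcomplex in degrees `≥ m` and its quotient, functorially -/

set_option autoImplicit false
set_option backward.isDefEq.respectTransparency false
set_option linter.style.haveILetI false
universe v u

open CategoryTheory CategoryTheory.Limits HomologicalComplex

noncomputable section

namespace GrothLib.ColimHom20

variable {C : Type u} [Category.{v} C] [Abelian C] (m : ℤ)

theorem sel_natural {K L : CochainComplex C ℤ} (f : K ⟶ L) (i : ℤ) :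
    StupidGE.sel K m i ≫ f.f i = f.f i ≫ StupidGE.sel L m i := by
  by_cases h : m ≤ i <;> simp [StupidGE.sel, h]

/-- The subcomplex in degrees `≥ m`, as a functor. -/
def truncF : CochainComplex C ℤ ⥤ CochainComplex C ℤ where
  obj K := StupidGE.trunc K m
  map {K L} f :=
    { f := fun i => kernel.map _ _ (f.f i) (f.f i) (sel_natural m f i)
      comm' := fun i j _ => by
        show kernel.lift _ _ _ ≫ kernel.lift _ _ _ = kernel.lift _ _ _ ≫ kernel.lift _ _ _
        rw [← cancel_mono (kernel.ι (StupidGE.sel L m j))]
        simp }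
  map_id K := by
    ext i
    show kernel.map _ _ ((𝟙 K : K ⟶ K).f i) ((𝟙 K : K ⟶ K).f i) (sel_natural m (𝟙 K) i) = 𝟙 (kernel _)
    rw [← cancel_mono (kernel.ι (StupidGE.sel K m i))]
    simp
  map_comp {K L M} f g := by
    ext i
    show kernel.map _ _ ((f ≫ g).f i) ((f ≫ g).f i) (sel_natural m (f ≫ g) i) =
      kernel.map _ _ (f.f i) (f.f i) (sel_natural m f i) ≫ kernel.map _ _ (g.f i) (g.f i) (sel_natural m g i)
    rw [← cancel_mono (kernel.ι (StupidGE.sel M m i))]
    simp

/-- The inclusion, naturally. -/
def truncι : truncF (C := C) m ⟶ 𝟭 _ where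
  app K := StupidGE.ι K m
  naturality K L f := by
    ext i
    show kernel.lift _ _ _ ≫ kernel.ι _ = kernel.ι _ ≫ f.f i
    simp

instance (K : CochainComplex C ℤ) : Mono ((truncι m).app K) :=
  haveI : ∀ i, Mono (((truncι m).app K).f i) := fun i => inferInstanceAs (Mono (kernel.ι _))
  HomologicalComplex.mono_of_mono_f _ inferInstance

/-- The quotient, as a functor. -/
def quotF : CochainComplex C ℤ ⥤ CochainComplex C ℤ where
  obj K := cokernel ((truncι m).app K)
  map {K L} f := cokernel.map _ _ ((truncF m).map f) f ((truncι m).naturality f).symm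
  map_id K := by ext1; simp
  map_comp f g := by
    rw [← cancel_epi (cokernel.π _)]
    simp

/-- The projection, naturally. -/
def quotπ : 𝟭 _ ⟶ quotF (C := C) m where
  app K := cokernel.π _
  naturality K L f := (cokernel.π_desc _ _ _).symm

/-- The short exact sequence. -/
def seq (K : CochainComplex C ℤ) : ShortComplex (CochainComplex C ℤ) :=
  ShortComplex.mk ((truncι m).app K) ((quotπ m).app K) (cokernel.condition _)

theorem seq_shortExact (K : CochainComplex C ℤ) : (seq m K).ShortExact :=
  { exact := ShortComplex.exact_of_g_is_cokernel _ (cokernelIsCokernel _)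
    mono_f := inferInstanceAs (Mono ((truncι m).app K))
    epi_g := inferInstanceAs (Epi (cokernel.π _)) }

/-- Functoriality of the sequence. -/
def seqMap {K L : CochainComplex C ℤ} (f : K ⟶ L) : seq m K ⟶ seq m L :=
  ShortComplex.homMk ((truncF m).map f) f ((quotF m).map f) ((truncι m).naturality f) ((quotπ m).naturality f)

theorem isIso_truncι_f (K : CochainComplex C ℤ) {i : ℤ} (h : m ≤ i) : IsIso (((truncι m).app K).f i) :=
  StupidGE.isIso_ι_f K m h

theorem isZero_quot_X (K : CochainComplex C ℤ) {i : ℤ} (h : m ≤ i ∨ IsZero (K.X i)) :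
    IsZero (((quotF m).obj K).X i) := by
  haveI : Epi ((quotπ m).app K) := inferInstanceAs (Epi (cokernel.π _))
  haveI : Epi (((quotπ m).app K).f i) := inferInstance
  rcases h with h | h
  · haveI := isIso_truncι_f m K h
    refine IsZero.of_epi_eq_zero (((quotπ m).app K).f i) ?_
    rw [← cancel_epi (((truncι m).app K).f i), ← HomologicalComplex.comp_f, comp_zero]
    rw [show (truncι m).app K ≫ (quotπ m).app K = 0 from cokernel.condition _]
    rfl
  · exact IsZero.of_epi_eq_zero (((quotπ m).app K).f i) (h.eq_of_src _ _)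

theorem isIso_quotπ_f (K : CochainComplex C ℤ) {i : ℤ} (h : i < m) : IsIso (((quotπ m).app K).f i) :=
  ((seq_shortExact m K).map_of_exact (HomologicalComplex.eval C (ComplexShape.up ℤ) i)).isIso_g_iff.2
    (StupidGE.isZero_trunc K m h)

end GrothLib.ColimHom20
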