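import Groth.Agent.Lib.ColimHom20.Five
import Groth.Agent.Lib.ColimHom20.Trunc
import Groth.Agent.Lib.DerCat.ColimitHomology
import Mathlib.Algebra.Homology.DerivedCategory.Ext.Basic
import Mathlib.Algebra.Homology.DerivedCategory.ShortExact
import Mathlib.Algebra.Homology.DerivedCategory.TStructure
import Mathlib.CategoryTheory.Limits.Types.Filtered
import Mathlib.Algebra.Category.Grp.FilteredColimits

/-! # Maps into filtered colimits of bounded below complexes -/

set_option autoImplicit false
set_option backward.isDefEq.respectTransparency false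
set_option linter.style.haveILetI false
set_option maxHeartbeats 1000000
universe w' w v u

open CategoryTheory CategoryTheory.Limits CategoryTheory.Pretriangulated Abelian

noncomputable section

namespace GrothLib.ColimHom20

variable {A : Type u} [Category.{v} A] [Abelian A] [HasDerivedCategory.{w'} A] [HasExt.{w} A]
  {J : Type w} [SmallCategory J] [IsFiltered J] (G : A)

/-- The shifted object. -/
abbrev sgl (m : ℤ) : DerivedCategory A := (DerivedCategory.singleFunctor A m).obj G

omit [HasExt.{w} A] in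
/-- Shifting the shifted object. -/
def sglShift (m m' : ℤ) (h : m + 1 = m') : (sgl G m')⟦(1 : ℤ)⟧ ≅ sgl G m :=
  ((DerivedCategory.singleFunctors A).shiftIso 1 m m' (by omega)).app G

variable {G}

/-- Targets of the single shifts, naturally. -/
def tgtIso (p : ℕ) (n m : ℤ) (h : n + p = m) :
    DerivedCategory.singleFunctor A 0 ⋙ shiftFunctor (DerivedCategory A) (p : ℤ) ⋙
      shiftFunctor (DerivedCategory A) (-m) ≅ DerivedCategory.singleFunctor A n :=
  Functor.isoWhiskerLeft _ (shiftFunctorAdd' (DerivedCategory A) (p : ℤ) (-m) (-n) (by omega)).symm ≪≫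
    (DerivedCategory.singleFunctors A).shiftIso (-n) n 0 (by omega)

variable (G) in
/-- `Ext` as maps of single objects. -/
def extEquiv (p : ℕ) (n m : ℤ) (h : n + p = m) (M : A) :
    Ext.{w} G M p ≃ (sgl G m ⟶ (DerivedCategory.singleFunctor A n).obj M) :=
  Ext.homEquiv.trans ((Functor.FullyFaithful.ofFullyFaithful
    (shiftFunctor (DerivedCategory A) (-m))).homEquiv.trans
      (Iso.homCongr (((DerivedCategory.singleFunctors A).shiftIso (-m) m 0 (by omega)).app G) ((tgtIso p n m h).app M)))

omit [IsFiltered J] in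
theorem extEquiv_comp (p : ℕ) (n m : ℤ) (h : n + p = m) {M M' : A} (f : M ⟶ M') (x : Ext.{w} G M p) :
    extEquiv G p n m h M' (x.comp (Ext.mk₀ f) (add_zero p)) =
      extEquiv G p n m h M x ≫ (DerivedCategory.singleFunctor A n).map f := by
  have h1 : (x.comp (Ext.mk₀ f) (add_zero p)).hom = x.hom ≫ ((DerivedCategory.singleFunctor A 0).map f)⟦(p : ℤ)⟧' := by
    rw [Ext.comp_hom, Ext.mk₀_hom, ShiftedHom.comp_mk₀]
  simp only [extEquiv, Equiv.trans_apply, Iso.homCongr_apply, Functor.FullyFaithful.homEquiv_apply]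
  rw [show Ext.homEquiv (x.comp (Ext.mk₀ f) (add_zero p)) = _ from h1, Functor.map_comp]
  simp only [Category.assoc]
  congr 2
  exact (tgtIso p n m h).hom.naturality f

variable (A J) in
/-- A cocone of complexes, a colimit in each degree. -/
structure Fam where
  /-- the diagram -/
  K : J ⥤ CochainComplex A ℤ
  /-- the cocone -/
  c : Cocone K
  hc : ∀ i, IsColimit ((HomologicalComplex.eval A (ComplexShape.up ℤ) i).mapCocone c)

variable (G) in
/-- Generation and killing for a family. -/
def GK (F : Fam A J) (m : ℤ) : Prop :=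
  Gen (F := fun j => DerivedCategory.Q.obj (F.K.obj j)) (sgl G m) (fun j => DerivedCategory.Q.map (F.c.ι.app j)) ∧
    Kill (F := fun j => DerivedCategory.Q.obj (F.K.obj j)) (sgl G m) (fun a => DerivedCategory.Q.map (F.K.map a))
      (fun j => DerivedCategory.Q.map (F.c.ι.app j))

omit [HasExt.{w} A] in
theorem gk_of_zero (F : Fam A J) (m : ℤ) (h : ∀ x : sgl G m ⟶ DerivedCategory.Q.obj F.c.pt, x = 0)
    (h' : ∀ j, ∀ x : sgl G m ⟶ DerivedCategory.Q.obj (F.K.obj j), x = 0) : GK G F m :=
  ⟨fun x => ⟨(IsFiltered.nonempty (C := J)).some, 0, by rw [zero_comp, h x]⟩,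
    fun j y _ => ⟨j, 𝟙 j, by rw [h' j y, zero_comp]⟩⟩

omit [HasExt.{w} A] [IsFiltered J] in
theorem isZero_pt_X (F : Fam A J) (i : ℤ) (h : ∀ j, IsZero ((F.K.obj j).X i)) : IsZero (F.c.pt.X i) := by
  rw [IsZero.iff_id_eq_zero]
  exact (F.hc i).hom_ext fun j => (h j).eq_of_src _ _

omit [HasExt.{w} A] [IsFiltered J] in
theorem strictlyGE_pt (F : Fam A J) (n : ℤ) (h : ∀ j, (F.K.obj j).IsStrictlyGE n) : F.c.pt.IsStrictlyGE n :=
  (CochainComplex.isStrictlyGE_iff _ n).2 fun i hi =>
    isZero_pt_X F i fun j => haveI := h j; (F.K.obj j).isZero_of_isStrictlyGE n i hi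

omit [HasExt.{w} A] [IsFiltered J] in
theorem strictlyLE_pt (F : Fam A J) (n : ℤ) (h : ∀ j, (F.K.obj j).IsStrictlyLE n) : F.c.pt.IsStrictlyLE n :=
  (CochainComplex.isStrictlyLE_iff _ n).2 fun i hi =>
    isZero_pt_X F i fun j => haveI := h j; (F.K.obj j).isZero_of_isStrictlyLE n i hi

omit [HasExt.{w} A] in
theorem eq_zero_of_ge (L : CochainComplex A ℤ) (n m : ℤ) (hmn : m < n) [L.IsStrictlyGE n]
    (x : sgl G m ⟶ DerivedCategory.Q.obj L) : x = 0 :=
  DerivedCategory.TStructure.t.zero_of_isLE_of_isGE x m n hmn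
    (inferInstance : ((DerivedCategory.singleFunctor A m).obj G).IsLE m)
    (inferInstance : (DerivedCategory.Q.obj L).IsGE n)

omit [HasExt.{w} A] [IsFiltered J] in
/-- The part in degrees `≥ r` of a family. -/
def famTrunc (F : Fam A J) (r : ℤ) : Fam A J where
  K := F.K ⋙ truncF r
  c := (truncF r).mapCocone F.c
  hc i := by
    by_cases h : r ≤ i
    · let e : (F.K ⋙ truncF r) ⋙ HomologicalComplex.eval A (ComplexShape.up ℤ) i ≅
          F.K ⋙ HomologicalComplex.eval A (ComplexShape.up ℤ) i :=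
        NatIso.ofComponents (fun j => @asIso _ _ _ _ (((truncι r).app (F.K.obj j)).f i) (isIso_truncι_f r _ h))
          (fun {j k} a => congrArg (fun φ => φ.f i) ((truncι r).naturality (F.K.map a)))
      let eP : ((truncF r).obj F.c.pt).X i ≅ F.c.pt.X i :=
        @asIso _ _ _ _ (((truncι r).app F.c.pt).f i) (isIso_truncι_f r _ h)
      exact (IsColimit.equivOfNatIsoOfIso e
        ((HomologicalComplex.eval A (ComplexShape.up ℤ) i).mapCocone ((truncF r).mapCocone F.c))
        ((HomologicalComplex.eval A (ComplexShape.up ℤ) i).mapCocone F.c) (Cocone.ext eP fun j => by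
          haveI := isIso_truncι_f r (F.K.obj j) h
          dsimp [e, eP]
          rw [Category.assoc]
          exact ((IsIso.inv_comp_eq _).2 (congrArg (fun φ => φ.f i) ((truncι r).naturality (F.c.ι.app j)))))).symm (F.hc i)
    · exact { desc := fun _ => 0
              fac := fun s j => (StupidGE.isZero_trunc (F.K.obj j) r (by omega)).eq_of_src _ _
              uniq := fun s f _ => (StupidGE.isZero_trunc F.c.pt r (by omega)).eq_of_src _ _ }

omit [HasExt.{w} A] [IsFiltered J] in
/-- The part in degrees `< r` of a family. -/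
def famQuot (F : Fam A J) (r : ℤ) : Fam A J where
  K := F.K ⋙ quotF r
  c := (quotF r).mapCocone F.c
  hc i := by
    by_cases h : r ≤ i
    · exact { desc := fun _ => 0
              fac := fun s j => (isZero_quot_X r (F.K.obj j) (Or.inl h)).eq_of_src _ _
              uniq := fun s f _ => (isZero_quot_X r F.c.pt (Or.inl h)).eq_of_src _ _ }
    · let e : F.K ⋙ HomologicalComplex.eval A (ComplexShape.up ℤ) i ≅
          (F.K ⋙ quotF r) ⋙ HomologicalComplex.eval A (ComplexShape.up ℤ) i :=
        NatIso.ofComponents (fun j => @asIso _ _ _ _ (((quotπ r).app (F.K.obj j)).f i) (isIso_quotπ_f r _ (by omega)))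
          (fun {j k} a => congrArg (fun φ => φ.f i) ((quotπ r).naturality (F.K.map a)))
      let eP : F.c.pt.X i ≅ ((quotF r).obj F.c.pt).X i :=
        @asIso _ _ _ _ (((quotπ r).app F.c.pt).f i) (isIso_quotπ_f r _ (by omega))
      exact IsColimit.equivOfNatIsoOfIso e
        ((HomologicalComplex.eval A (ComplexShape.up ℤ) i).mapCocone F.c)
        ((HomologicalComplex.eval A (ComplexShape.up ℤ) i).mapCocone ((quotF r).mapCocone F.c)) (Cocone.ext eP fun j => by
          haveI := isIso_quotπ_f r (F.K.obj j) (i := i) (by omega)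
          dsimp [e, eP]
          rw [Category.assoc]
          exact ((IsIso.inv_comp_eq _).2 (congrArg (fun φ => φ.f i) ((quotπ r).naturality (F.c.ι.app j))))) (F.hc i)

omit [HasExt.{w} A] in
theorem gk_five (F : Fam A J) (r m : ℤ) (h₁ : GK G (famTrunc F r) m) (h₁' : GK G (famTrunc F r) (m + 1))
    (h₃ : GK G (famQuot F r) m) (h₃' : GK G (famQuot F r) (m - 1)) : GK G F m := by
  let T : J → Triangle (DerivedCategory A) := fun j => DerivedCategory.triangleOfSES (seq_shortExact r (F.K.obj j))
  let t : ∀ {j k : J}, (j ⟶ k) → (T j ⟶ T k) := fun a =>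
    DerivedCategory.triangleOfSES.map _ _ (seqMap r (F.K.map a))
  let η : ∀ j, T j ⟶ DerivedCategory.triangleOfSES (seq_shortExact r F.c.pt) := fun j =>
    DerivedCategory.triangleOfSES.map _ _ (seqMap r (F.c.ι.app j))
  have hη : ∀ {j k : J} (a : j ⟶ k), t a ≫ η k = η j := fun {j k} a => by
    ext <;>
    · show DerivedCategory.Q.map _ ≫ DerivedCategory.Q.map _ = DerivedCategory.Q.map _
      simp only [← Functor.map_comp, seqMap, ShortComplex.homMk, F.c.w a]
  have ht : ∀ {i j k : J} (a : i ⟶ j) (b : j ⟶ k), t (a ≫ b) = t a ≫ t b := fun {i j k} a b => by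
    ext <;>
    · show DerivedCategory.Q.map _ = DerivedCategory.Q.map _ ≫ DerivedCategory.Q.map _
      simp only [← Functor.map_comp, seqMap, ShortComplex.homMk]
  have hT := fun j => DerivedCategory.triangleOfSES_distinguished (seq_shortExact r (F.K.obj j))
  have h₀ := DerivedCategory.triangleOfSES_distinguished (seq_shortExact r F.c.pt)
  exact ⟨gen₂ t η hη hT h₀ (sglShift G m (m + 1) rfl) h₁.1 h₃.1 h₁'.2,
    kill₂ t η hη hT h₀ ht (sglShift G (m - 1) m (by omega)) h₁.2 h₃'.1 h₃.2⟩

section Base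

/-- A complex concentrated in degree `n` is the single complex. -/
theorem isIso_toSingle (L : CochainComplex A ℤ) (n : ℤ) [L.IsStrictlyGE n] [L.IsStrictlyLE n]
    (φ : L ⟶ (HomologicalComplex.single A (ComplexShape.up ℤ) n).obj (L.X n))
    (hφ : φ.f n = (HomologicalComplex.singleObjXSelf (ComplexShape.up ℤ) n (L.X n)).inv) : IsIso φ := by
  haveI : ∀ i, IsIso (φ.f i) := fun i => by
    by_cases hi : i = n
    · subst hi; rw [hφ]; infer_instance
    · have hz : IsZero (L.X i) := by
        rcases lt_or_gt_of_ne hi with h | h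
        · exact L.isZero_of_isStrictlyGE n i h
        · exact L.isZero_of_isStrictlyLE n i h
      exact ⟨0, hz.eq_of_src _ _, (HomologicalComplex.isZero_single_obj_X _ _ _ _ hi).eq_of_src _ _⟩
  exact HomologicalComplex.Hom.isIso_of_components φ

/-- The comparison with the single complex. -/
def toSingle (L : CochainComplex A ℤ) (n : ℤ) [L.IsStrictlyGE n] :
    L ⟶ (HomologicalComplex.single A (ComplexShape.up ℤ) n).obj (L.X n) :=
  HomologicalComplex.mkHomToSingle (𝟙 _) (fun i (hi : i + 1 = n) =>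
    (L.isZero_of_isStrictlyGE n i (by omega)).eq_of_src _ _)

omit [HasDerivedCategory.{w'} A] [HasExt.{w} A] in
theorem toSingle_natural {L L' : CochainComplex A ℤ} (f : L ⟶ L') (n : ℤ) [L.IsStrictlyGE n] [L'.IsStrictlyGE n] :
    f ≫ toSingle L' n = toSingle L n ≫ (HomologicalComplex.single A (ComplexShape.up ℤ) n).map (f.f n) := by
  apply HomologicalComplex.to_single_hom_ext
  simp [toSingle, HomologicalComplex.single_map_f_self]

/-- A complex concentrated in degree `n`, in the derived category. -/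
def singleIso (L : CochainComplex A ℤ) (n : ℤ) [L.IsStrictlyGE n] [L.IsStrictlyLE n] :
    DerivedCategory.Q.obj L ≅ (DerivedCategory.singleFunctor A n).obj (L.X n) :=
  haveI := isIso_toSingle L n (toSingle L n) (by simp [toSingle])
  DerivedCategory.Q.mapIso (asIso (toSingle L n))

theorem singleIso_natural {L L' : CochainComplex A ℤ} (f : L ⟶ L') (n : ℤ) [L.IsStrictlyGE n] [L.IsStrictlyLE n]
    [L'.IsStrictlyGE n] [L'.IsStrictlyLE n] :
    DerivedCategory.Q.map f ≫ (singleIso L' n).hom =
      (singleIso L n).hom ≫ (DerivedCategory.singleFunctor A n).map (f.f n) := by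
  show DerivedCategory.Q.map f ≫ DerivedCategory.Q.map (toSingle L' n) =
    DerivedCategory.Q.map (toSingle L n) ≫ DerivedCategory.Q.map ((HomologicalComplex.single A _ n).map (f.f n))
  rw [← Functor.map_comp, ← Functor.map_comp, toSingle_natural]

variable [∀ p : ℕ, PreservesColimitsOfShape J (Abelian.extFunctorObj.{w} G p)]

theorem gk_single (F : Fam A J) (n : ℤ) (hge : ∀ j, (F.K.obj j).IsStrictlyGE n)
    (hle : ∀ j, (F.K.obj j).IsStrictlyLE n) (m : ℤ) : GK G F m := by
  haveI := strictlyGE_pt F n hge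
  haveI := strictlyLE_pt F n hle
  haveI := hge
  haveI := hle
  by_cases hmn : m < n
  · exact gk_of_zero F m (eq_zero_of_ge _ n m hmn) fun j => eq_zero_of_ge _ n m hmn
  obtain ⟨p, hp⟩ : ∃ p : ℕ, n + p = m := ⟨(m - n).toNat, by omega⟩
  let E := Abelian.extFunctorObj.{w} G p
  have hl : IsColimit (E.mapCocone ((HomologicalComplex.eval A (ComplexShape.up ℤ) n).mapCocone F.c)) :=
    isColimitOfPreserves E (F.hc n)
  let e : ∀ L : CochainComplex A ℤ, [L.IsStrictlyGE n] → [L.IsStrictlyLE n] →
      Ext.{w} G (L.X n) p ≃ (sgl G m ⟶ DerivedCategory.Q.obj L) := fun L _ _ =>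
    (extEquiv G p n m hp (L.X n)).trans (singleIso L n).symm.homToEquiv
  have he : ∀ (L L' : CochainComplex A ℤ) (f : L ⟶ L') [L.IsStrictlyGE n] [L.IsStrictlyLE n]
      [L'.IsStrictlyGE n] [L'.IsStrictlyLE n] (x : Ext.{w} G (L.X n) p),
      e L x ≫ DerivedCategory.Q.map f = e L' (x.comp (Ext.mk₀ (f.f n)) (add_zero p)) := by
    intro L L' f _ _ _ _ x
    simp only [e, Equiv.trans_apply, Iso.homToEquiv_apply, Iso.symm_hom]
    rw [extEquiv_comp, Category.assoc, Category.assoc]
    congr 1
    rw [Iso.eq_comp_inv, Category.assoc, singleIso_natural, Iso.inv_hom_id_assoc]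
  refine ⟨fun x => ?_, fun j y hy => ?_⟩
  · obtain ⟨j, z, hz⟩ := Concrete.isColimit_exists_rep _ hl ((e F.c.pt).symm x)
    refine ⟨j, e (F.K.obj j) z, ?_⟩
    rw [he, ← (e F.c.pt).apply_symm_apply x, ← hz]
    rfl
  · obtain ⟨z, rfl⟩ := (e (F.K.obj j)).surjective y
    rw [he] at hy
    have h0 : ∀ (L : CochainComplex A ℤ) [L.IsStrictlyGE n] [L.IsStrictlyLE n], e L 0 = 0 := fun L _ _ => by
      have := he (F.K.obj j) L 0 0
      simpa using this.symm
    have hz : (E.mapCocone ((HomologicalComplex.eval A (ComplexShape.up ℤ) n).mapCocone F.c)).ι.app j z =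
        (E.mapCocone ((HomologicalComplex.eval A (ComplexShape.up ℤ) n).mapCocone F.c)).ι.app j 0 := by
      rw [map_zero]
      exact (e F.c.pt).injective (hy.trans (h0 _).symm)
    obtain ⟨k, a, hk⟩ := (Types.FilteredColimit.isColimit_eq_iff'
      (isColimitOfPreserves (forget AddCommGrpCat.{w}) hl) z 0).1 hz
    refine ⟨k, a, ?_⟩
    rw [he, ← h0 (F.K.obj k)]
    refine congrArg (e (F.K.obj k)) (hk.trans ?_)
    exact map_zero (E.map ((F.K.map a).f n)).hom

theorem gk_bounded : ∀ (l : ℕ) (n : ℤ) (F : Fam A J), (∀ j, (F.K.obj j).IsStrictlyGE n) →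
    (∀ j, (F.K.obj j).IsStrictlyLE (n + l)) → ∀ m, GK G F m := by
  intro l
  induction l with
  | zero => exact fun n F hge hle m => gk_single F n hge (by simpa using hle) m
  | succ l ih =>
    intro n F hge hle m
    have h₁ : ∀ m, GK G (famTrunc F (n + 1)) m := ih (n + 1) _
      (fun j => (CochainComplex.isStrictlyGE_iff _ _).2 fun i hi => StupidGE.isZero_trunc (F.K.obj j) _ hi)
      (fun j => (CochainComplex.isStrictlyLE_iff _ _).2 fun i hi => haveI := hle j
        StupidGE.isZero_trunc_of_isZero (F.K.obj j) _ ((F.K.obj j).isZero_of_isStrictlyLE (n + (l + 1 : ℕ)) i (by omega)))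
    have h₃ : ∀ m, GK G (famQuot F (n + 1)) m := gk_single _ n
      (fun j => (CochainComplex.isStrictlyGE_iff _ _).2 fun i hi => haveI := hge j
        isZero_quot_X _ (F.K.obj j) (Or.inr ((F.K.obj j).isZero_of_isStrictlyGE n i hi)))
      (fun j => (CochainComplex.isStrictlyLE_iff _ _).2 fun i hi => isZero_quot_X _ (F.K.obj j) (Or.inl (by omega)))
    exact gk_five F (n + 1) m (h₁ _) (h₁ _) (h₃ _) (h₃ _)

theorem gk_strictlyGE (F : Fam A J) (n : ℤ) (hge : ∀ j, (F.K.obj j).IsStrictlyGE n) (m : ℤ) : GK G F m := by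
  let r := max n m + 2
  have hs : ∀ L : CochainComplex A ℤ, ((truncF r).obj L).IsStrictlyGE r := fun L =>
    (CochainComplex.isStrictlyGE_iff _ _).2 fun i hi => StupidGE.isZero_trunc L _ hi
  have h₁ : ∀ m', m' < r → GK G (famTrunc F r) m' := fun m' h' => gk_of_zero _ m'
    (fun x => haveI := hs F.c.pt; eq_zero_of_ge ((truncF r).obj F.c.pt) r m' h' x)
    (fun j x => haveI := hs (F.K.obj j); eq_zero_of_ge ((truncF r).obj (F.K.obj j)) r m' h' x)
  have h₃ : ∀ m', GK G (famQuot F r) m' := gk_bounded (r - 1 - n).toNat n _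
    (fun j => (CochainComplex.isStrictlyGE_iff _ _).2 fun i hi => haveI := hge j
      isZero_quot_X _ (F.K.obj j) (Or.inr ((F.K.obj j).isZero_of_isStrictlyGE n i hi)))
    (fun j => (CochainComplex.isStrictlyLE_iff _ _).2 fun i hi => isZero_quot_X _ (F.K.obj j) (Or.inl (by omega)))
  exact gk_five F r m (h₁ _ (by omega)) (h₁ _ (by omega)) (h₃ _) (h₃ _)

end Base

end GrothLib.ColimHom20
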