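import Groth.Agent.Lib.ColimHom20.Main

/-! # The bounded below case, up to quasi-isomorphism -/

set_option autoImplicit false
set_option backward.isDefEq.respectTransparency false
set_option linter.style.haveILetI false
set_option maxHeartbeats 1000000
universe w' w v u

open CategoryTheory CategoryTheory.Limits HomologicalComplex

noncomputable section

namespace GrothLib.ColimHom20

variable {A : Type u} [Category.{v} A] [Abelian A]

theorem isIso_πTruncGE_f (L : CochainComplex A ℤ) (n p : ℤ) (hp : n < p) : IsIso ((L.πTruncGE n).f p) := by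
  obtain ⟨k, rfl⟩ := Int.le.dest hp.le
  show IsIso ((HomologicalComplex.πTruncGE L (ComplexShape.embeddingUpIntGE n)).f (n + k))
  have hk : (ComplexShape.embeddingUpIntGE n).f k = n + k := rfl
  dsimp [HomologicalComplex.πTruncGE]
  refine (ComplexShape.Embedding.isIso_liftExtend_f_iff _ _ _ hk).2 ?_
  apply isIso_restrictionToTruncGE'
  rw [ComplexShape.boundaryGE_embeddingUpIntGE_iff]
  omega

theorem exists_fac_πTruncGE (L : CochainComplex A ℤ) (n : ℤ) {Z : A} (u : L.X n ⟶ Z) (hu : L.d (n - 1) n ≫ u = 0) :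
    ∃ v, (L.πTruncGE n).f n ≫ v = u := by
  have h0 : (ComplexShape.embeddingUpIntGE n).f 0 = n := by simp
  have hb : (ComplexShape.embeddingUpIntGE n).BoundaryGE 0 := by
    rw [ComplexShape.boundaryGE_embeddingUpIntGE_iff]
  refine ⟨((L.truncGE' (ComplexShape.embeddingUpIntGE n)).extendXIso _ h0).hom ≫
    (L.truncGE'XIsoOpcycles _ h0 hb).hom ≫ L.descOpcycles u (n - 1) (by simp) hu, ?_⟩
  show (HomologicalComplex.πTruncGE L (ComplexShape.embeddingUpIntGE n)).f n ≫ _ = u
  rw [HomologicalComplex.πTruncGE, ComplexShape.Embedding.liftExtend_f _ _ _ h0,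
    restrictionToTruncGE'_f_eq_iso_hom_pOpcycles_iso_inv L _ h0 hb]
  simp

variable [HasDerivedCategory.{w'} A] [HasExt.{w} A] {J : Type w} [SmallCategory J] [IsFiltered J]

omit [HasDerivedCategory.{w'} A] [HasExt.{w} A] [IsFiltered J] in
/-- The truncation of a family. -/
def famGE (F : Fam A J) (n : ℤ) : Fam A J where
  K :=
    { obj := fun j => (F.K.obj j).truncGE n
      map := fun a => CochainComplex.truncGEMap (F.K.map a) n
      map_id := fun j => by rw [F.K.map_id]; exact HomologicalComplex.truncGEMap_id _ _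
      map_comp := fun a b => by rw [F.K.map_comp]; exact HomologicalComplex.truncGEMap_comp _ _ _ }
  c :=
    { pt := F.c.pt.truncGE n
      ι :=
        { app := fun j => CochainComplex.truncGEMap (F.c.ι.app j) n
          naturality := fun j k a => by
            show CochainComplex.truncGEMap (F.K.map a) n ≫ CochainComplex.truncGEMap (F.c.ι.app k) n =
              CochainComplex.truncGEMap (F.c.ι.app j) n ≫ 𝟙 _
            rw [Category.comp_id]
            exact (HomologicalComplex.truncGEMap_comp _ _ _).symm.trans (by rw [F.c.w a]) } }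
  hc i := by
    let π := fun L : CochainComplex A ℤ => (L.πTruncGE n).f i
    have hnat : ∀ {L L' : CochainComplex A ℤ} (f : L ⟶ L'),
        π L ≫ (CochainComplex.truncGEMap f n).f i = f.f i ≫ π L' :=
      fun {L L'} f => congrArg (fun φ => φ.f i) (CochainComplex.πTruncGE_naturality f n)
    haveI : ∀ L : CochainComplex A ℤ, Epi (π L) := fun L =>
      inferInstanceAs (Epi ((HomologicalComplex.πTruncGE L (ComplexShape.embeddingUpIntGE n)).f i))
    by_cases hi : i < n
    · exact { desc := fun _ => 0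
              fac := fun s j => ((F.K.obj j).truncGE n |>.isZero_of_isStrictlyGE n i hi).eq_of_src _ _
              uniq := fun s f _ => (F.c.pt.truncGE n |>.isZero_of_isStrictlyGE n i hi).eq_of_src _ _ }
    refine IsColimit.ofExistsUnique fun s => ?_
    let s' : Cocone (F.K ⋙ HomologicalComplex.eval A (ComplexShape.up ℤ) i) :=
      { pt := s.pt
        ι :=
          { app := fun j => π (F.K.obj j) ≫ s.ι.app j
            naturality := fun j k a => by
              show (F.K.map a).f i ≫ π (F.K.obj k) ≫ s.ι.app k = (π (F.K.obj j) ≫ s.ι.app j) ≫ 𝟙 _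
              rw [← Category.assoc, ← hnat, Category.assoc, Category.comp_id]
              exact congrArg (π (F.K.obj j) ≫ ·) (s.w a) } }
    let u : F.c.pt.X i ⟶ s.pt := (F.hc i).desc s'
    have hu : ∀ j, (F.c.ι.app j).f i ≫ u = π (F.K.obj j) ≫ s.ι.app j := fun j => (F.hc i).fac s' j
    obtain ⟨v, hv⟩ : ∃ v, π F.c.pt ≫ v = u := by
      by_cases hin : n < i
      · haveI := isIso_πTruncGE_f F.c.pt n i hin
        exact ⟨inv (π F.c.pt) ≫ u, IsIso.hom_inv_id_assoc _ _⟩
      · obtain rfl : i = n := by omega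
        refine exists_fac_πTruncGE _ i u ((F.hc (i - 1)).hom_ext fun j => ?_)
        show (F.c.ι.app j).f (i - 1) ≫ F.c.pt.d (i - 1) i ≫ u = (F.c.ι.app j).f (i - 1) ≫ 0
        rw [← Category.assoc, HomologicalComplex.Hom.comm (show F.K.obj j ⟶ F.c.pt from F.c.ι.app j), Category.assoc,
          hu, comp_zero, ← Category.assoc]
        refine zero_comp.symm.trans (congrArg (· ≫ s.ι.app j) ?_) |>.symm
        show 0 = (F.K.obj j).d (i - 1) i ≫ π (F.K.obj j)
        rw [← ((F.K.obj j).πTruncGE i).comm (i - 1) i]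
        rw [(((F.K.obj j).truncGE i).isZero_of_isStrictlyGE i (i - 1) (by omega)).eq_of_tgt
          (((F.K.obj j).πTruncGE i).f (i - 1)) 0, zero_comp]
    refine ⟨v, fun j => ?_, fun w hw => ?_⟩
    · apply (cancel_epi (π (F.K.obj j))).1
      show π _ ≫ (CochainComplex.truncGEMap (F.c.ι.app j) n).f i ≫ v = _
      rw [← Category.assoc, hnat (L' := F.c.pt) (F.c.ι.app j), Category.assoc, hv, hu]
    · apply (cancel_epi (π F.c.pt)).1
      rw [hv]
      refine (F.hc i).hom_ext fun j => ?_
      show (F.c.ι.app j).f i ≫ π F.c.pt ≫ w = (F.c.ι.app j).f i ≫ u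
      rw [hu, ← Category.assoc, ← hnat (L' := F.c.pt) (F.c.ι.app j), Category.assoc]
      exact congrArg (π (F.K.obj j) ≫ ·) (hw j)

variable {G : A} [∀ p : ℕ, PreservesColimitsOfShape J (Abelian.extFunctorObj.{w} G p)]

theorem gk_isGE (F : Fam A J) (n : ℤ) (hge : ∀ j, (F.K.obj j).IsGE n) (hpt : F.c.pt.IsGE n) (m : ℤ) : GK G F m := by
  obtain ⟨g, k⟩ := gk_strictlyGE (G := G) (famGE F n) n (fun j => inferInstanceAs ((F.K.obj j).truncGE n |>.IsStrictlyGE n)) m
  haveI := hpt
  haveI := hge
  let π := fun L : CochainComplex A ℤ => DerivedCategory.Q.map (L.πTruncGE n)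
  have hπ : ∀ L : CochainComplex A ℤ, L.IsGE n → IsIso (π L) := fun L hL => by
    haveI := hL
    infer_instance
  haveI := fun j => hπ _ (hge j)
  haveI := hπ _ hpt
  have hnat : ∀ {L L' : CochainComplex A ℤ} (f : L ⟶ L'),
      π L ≫ DerivedCategory.Q.map (CochainComplex.truncGEMap f n) = DerivedCategory.Q.map f ≫ π L' := fun {L L'} f => by
    rw [← Functor.map_comp, ← Functor.map_comp, CochainComplex.πTruncGE_naturality]
  refine ⟨fun x => ?_, fun j y hy => ?_⟩
  · obtain ⟨j, y, hy⟩ := g (x ≫ π F.c.pt)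
    refine ⟨j, y ≫ inv (π (F.K.obj j)), ?_⟩
    rw [← cancel_mono (π F.c.pt), Category.assoc, Category.assoc, ← hnat, IsIso.inv_hom_id_assoc]
    exact hy
  · obtain ⟨l, a, ha⟩ := k j (y ≫ π (F.K.obj j)) (by
      show (y ≫ π _) ≫ DerivedCategory.Q.map (CochainComplex.truncGEMap (F.c.ι.app j) n) = 0
      rw [Category.assoc, hnat, ← Category.assoc, hy, zero_comp])
    refine ⟨l, a, ?_⟩
    rw [← cancel_mono (π (F.K.obj l)), zero_comp, Category.assoc, ← hnat, ← Category.assoc]
    exact ha

end GrothLib.ColimHom20
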