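import Mathlib.CategoryTheory.Triangulated.Pretriangulated
import Mathlib.CategoryTheory.Filtered.Basic
import Mathlib.CategoryTheory.Triangulated.Yoneda

/-! # Maps into filtered families: the five lemma -/

set_option autoImplicit false
set_option backward.isDefEq.respectTransparency false
set_option linter.style.haveILetI false

universe w v u

open CategoryTheory CategoryTheory.Limits CategoryTheory.Pretriangulated

noncomputable section

namespace GrothLib.ColimHom20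

variable {D : Type u} [Category.{v} D] {J : Type w} [SmallCategory J]

/-- Every map from `P` into the target comes from a stage. -/
def Gen (P : D) {F : J → D} {T : D} (ι : ∀ j, F j ⟶ T) : Prop :=
  ∀ x : P ⟶ T, ∃ (j : J) (y : P ⟶ F j), y ≫ ι j = x

/-- A map from `P` into a stage dying in the target dies at a later stage. -/
def Kill [HasZeroMorphisms D] (P : D) {F : J → D} (m : ∀ {j k : J}, (j ⟶ k) → (F j ⟶ F k)) {T : D}
    (ι : ∀ j, F j ⟶ T) : Prop :=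
  ∀ (j : J) (y : P ⟶ F j), y ≫ ι j = 0 → ∃ (k : J) (a : j ⟶ k), y ≫ m a = 0

section Iso

variable [HasZeroMorphisms D] {P P' : D} (e : P ≅ P') {F : J → D} {m : ∀ {j k : J}, (j ⟶ k) → (F j ⟶ F k)}
  {T : D} {ι : ∀ j, F j ⟶ T}

include e in
theorem Gen.of_iso (h : Gen P ι) : Gen P' ι := fun x => by
  obtain ⟨j, y, hy⟩ := h (e.hom ≫ x)
  exact ⟨j, e.inv ≫ y, by rw [Category.assoc, hy, Iso.inv_hom_id_assoc]⟩

include e in
theorem Kill.of_iso (h : Kill P m ι) : Kill P' m ι := fun j y hy => by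
  obtain ⟨k, a, ha⟩ := h j (e.hom ≫ y) (by rw [Category.assoc, hy, comp_zero])
  exact ⟨k, a, by rw [← cancel_epi e.hom, ← Category.assoc, ha, comp_zero]⟩

end Iso

variable [HasShift D ℤ] [Preadditive D] [HasZeroObject D] [∀ n : ℤ, (shiftFunctor D n).Additive] [Pretriangulated D]
  [IsFiltered J] {T : J → Triangle D} (t : ∀ {j k : J}, (j ⟶ k) → (T j ⟶ T k)) {T₀ : Triangle D}
  (η : ∀ j, T j ⟶ T₀) (hη : ∀ {j k : J} (a : j ⟶ k), t a ≫ η k = η j)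
  (hT : ∀ j, T j ∈ distTriang D) (h₀ : T₀ ∈ distTriang D)

include hη in
omit [IsFiltered J] in
theorem fac₁ {j k : J} (a : j ⟶ k) : (t a).hom₁ ≫ (η k).hom₁ = (η j).hom₁ := by
  rw [← comp_hom₁, hη]

include hη in
omit [IsFiltered J] in
theorem fac₂ {j k : J} (a : j ⟶ k) : (t a).hom₂ ≫ (η k).hom₂ = (η j).hom₂ := by
  rw [← comp_hom₂, hη]

include hη in
omit [IsFiltered J] in
theorem fac₃ {j k : J} (a : j ⟶ k) : (t a).hom₃ ≫ (η k).hom₃ = (η j).hom₃ := by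
  rw [← comp_hom₃, hη]

include t hη hT h₀ in
/-- Generation for the middle terms. -/
theorem gen₂ {P P' : D} (e : P'⟦(1 : ℤ)⟧ ≅ P) (g₁ : Gen P fun j => (η j).hom₁) (g₃ : Gen P fun j => (η j).hom₃)
    (k₁ : Kill P' (fun {_ _} a => (t a).hom₁) fun j => (η j).hom₁) : Gen P fun j => (η j).hom₂ := fun x => by
  obtain ⟨j, y₃, hy₃⟩ := g₃ (x ≫ T₀.mor₂)
  obtain ⟨z, hz⟩ := (shiftFunctor D (1 : ℤ)).map_surjective (e.hom ≫ y₃ ≫ (T j).mor₃)
  have h1 : z ≫ (η j).hom₁ = 0 := (shiftFunctor D (1 : ℤ)).map_injective (by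
    rw [Functor.map_comp, Functor.map_zero, hz, Category.assoc, Category.assoc, (η j).comm₃, reassoc_of% hy₃,
      comp_distTriang_mor_zero₂₃ _ h₀, comp_zero, comp_zero])
  obtain ⟨k, a, ha⟩ := k₁ j z h1
  have h2 : (y₃ ≫ (t a).hom₃) ≫ (T k).mor₃ = 0 := by
    rw [← cancel_epi e.hom, comp_zero, Category.assoc, ← (t a).comm₃, ← Category.assoc y₃, ← Category.assoc, ← hz,
      ← Functor.map_comp, ha, Functor.map_zero]
  obtain ⟨y₂, hy₂⟩ : ∃ y₂, y₃ ≫ (t a).hom₃ = y₂ ≫ (T k).mor₂ := Triangle.coyoneda_exact₃ _ (hT k) _ h2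
  obtain ⟨w, hw⟩ : ∃ w, x - y₂ ≫ (η k).hom₂ = w ≫ T₀.mor₁ := Triangle.coyoneda_exact₂ _ h₀ _ (by
    rw [Preadditive.sub_comp, Category.assoc, ← (η k).comm₂, ← Category.assoc, ← hy₂, Category.assoc,
      fac₃ t η hη a, hy₃, sub_self])
  obtain ⟨l, y₁, hy₁⟩ := g₁ w
  refine ⟨IsFiltered.max k l, y₂ ≫ (t (IsFiltered.leftToMax k l)).hom₂ +
    y₁ ≫ (T l).mor₁ ≫ (t (IsFiltered.rightToMax k l)).hom₂, ?_⟩
  rw [Preadditive.add_comp, Category.assoc, fac₂ t η hη, Category.assoc, Category.assoc, fac₂ t η hη,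
    (η l).comm₁, reassoc_of% hy₁, ← hw, add_sub_cancel]

include t hη hT h₀ in
/-- Killing for the middle terms. -/
theorem kill₂ (ht : ∀ {i j k : J} (a : i ⟶ j) (b : j ⟶ k), t (a ≫ b) = t a ≫ t b) {P Q : D} (e : P⟦(1 : ℤ)⟧ ≅ Q) (k₁ : Kill P (fun {_ _} a => (t a).hom₁) fun j => (η j).hom₁)
    (g₃ : Gen Q fun j => (η j).hom₃)
    (k₃ : Kill P (fun {_ _} a => (t a).hom₃) fun j => (η j).hom₃) :
    Kill P (fun {_ _} a => (t a).hom₂) fun j => (η j).hom₂ := fun j y hy => by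
  obtain ⟨k, a, ha⟩ := k₃ j (y ≫ (T j).mor₂) (by
    rw [Category.assoc, (η j).comm₂, ← Category.assoc, hy, zero_comp])
  obtain ⟨z, hz⟩ : ∃ z, y ≫ (t a).hom₂ = z ≫ (T k).mor₁ := Triangle.coyoneda_exact₂ _ (hT k) _ (by
    rw [Category.assoc, ← (t a).comm₂, ← Category.assoc, ha])
  have h1 : (z ≫ (η k).hom₁)⟦(1 : ℤ)⟧' ≫ T₀.mor₁⟦(1 : ℤ)⟧' = 0 := by
    rw [← Functor.map_comp, Category.assoc, ← (η k).comm₁, ← Category.assoc, ← hz, Category.assoc, fac₂ t η hη,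
      hy, Functor.map_zero]
  obtain ⟨u, hu⟩ : ∃ u, (z ≫ (η k).hom₁)⟦(1 : ℤ)⟧' = u ≫ T₀.mor₃ := Triangle.coyoneda_exact₁ _ h₀ _ h1
  obtain ⟨l, v, hv⟩ := g₃ (e.inv ≫ u)
  let p := IsFiltered.leftToMax k l
  let q := IsFiltered.rightToMax k l
  obtain ⟨d, hd⟩ := (shiftFunctor D (1 : ℤ)).map_surjective
    ((z ≫ (t p).hom₁)⟦(1 : ℤ)⟧' - e.hom ≫ v ≫ (t q).hom₃ ≫ (T _).mor₃)
  have h2 : d ≫ (η _).hom₁ = 0 := (shiftFunctor D (1 : ℤ)).map_injective (by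
    rw [Functor.map_comp, hd, Preadditive.sub_comp, Functor.map_zero, ← Functor.map_comp, Category.assoc,
      fac₁ t η hη, hu, Category.assoc, Category.assoc, Category.assoc, (η _).comm₃,
      ← Category.assoc (t q).hom₃, fac₃ t η hη, reassoc_of% hv, Iso.hom_inv_id_assoc, sub_self])
  obtain ⟨r, c, hc⟩ := k₁ _ d h2
  refine ⟨r, (a ≫ p) ≫ c, ?_⟩
  have h3 : (z ≫ (t p).hom₁ ≫ (t c).hom₁)⟦(1 : ℤ)⟧' = e.hom ≫ v ≫ (t q).hom₃ ≫ (t c).hom₃ ≫ (T r).mor₃ := by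
    rw [← Category.assoc z, Functor.map_comp,
      show (z ≫ (t p).hom₁)⟦(1 : ℤ)⟧' = d⟦(1 : ℤ)⟧' + e.hom ≫ v ≫ (t q).hom₃ ≫ (T _).mor₃ by rw [hd, sub_add_cancel],
      Preadditive.add_comp, ← Functor.map_comp, hc, Functor.map_zero, zero_add, Category.assoc, Category.assoc,
      Category.assoc, (t c).comm₃]
  apply (shiftFunctor D (1 : ℤ)).map_injective
  show (y ≫ (t ((a ≫ p) ≫ c)).hom₂)⟦(1 : ℤ)⟧' = _
  rw [Functor.map_zero, ht, ht, comp_hom₂, comp_hom₂, Category.assoc, ← Category.assoc y, hz, Category.assoc,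
    (t p).comm₁_assoc, (t c).comm₁, ← Category.assoc (t p).hom₁, ← Category.assoc z, Functor.map_comp, h3]
  simp [comp_distTriang_mor_zero₃₁ _ (hT r)]

end GrothLib.ColimHom20
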