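import Mathlib.Algebra.Homology.HomologicalComplexLimits
import Mathlib.Algebra.Homology.ShortComplex.HomologicalComplex
import Mathlib.Algebra.Homology.ShortComplex.PreservesHomology
import Mathlib.Algebra.Homology.ShortComplex.Abelian
import Mathlib.Algebra.Homology.ShortComplex.FunctorEquivalence
import Mathlib.CategoryTheory.Abelian.FunctorCategory
import Mathlib.CategoryTheory.Abelian.GrothendieckAxioms.Basic

/-! # Homology of degreewise colimits along exact colimit functors -/

set_option autoImplicit false
set_option backward.isDefEq.respectTransparency false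
set_option linter.style.haveILetI false
set_option maxHeartbeats 1000000
universe w w' v u

open CategoryTheory CategoryTheory.Limits HomologicalComplex

noncomputable section

namespace GrothLib.ColimHom20

variable {A : Type u} [Category.{v} A] [Abelian A] {J : Type w} [Category.{w'} J]
  [HasColimitsOfShape J A] [HasExactColimitsOfShape J A]

/-- The homology of a degreewise colimit is the colimit of the homology. -/
theorem nonempty_isColimit_homology {K : J ⥤ CochainComplex A ℤ} (c₀ : Cocone K)
    (hc : ∀ i, IsColimit ((eval A (ComplexShape.up ℤ) i).mapCocone c₀)) (i : ℤ) :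
    Nonempty (IsColimit ((HomologicalComplex.homologyFunctor A (ComplexShape.up ℤ) i).mapCocone c₀)) := by
  let c := ComplexShape.up ℤ
  let H := HomologicalComplex.homologyFunctor A c i
  let d : ∀ k k', K ⋙ eval A c k ⟶ K ⋙ eval A c k' := fun k k' =>
    { app := fun j => (K.obj j).d k k'
      naturality := fun j j' a => (K.map a).comm k k' }
  let S : ShortComplex (J ⥤ A) := ShortComplex.mk (d (c.prev i) i) (d i (c.next i))
    (by ext j; exact (K.obj j).d_comp_d _ _ _)
  let p : ∀ k, colimit (K ⋙ eval A c k) ≅ c₀.pt.X k := fun k =>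
    (colimit.isColimit _).coconePointUniqueUpToIso (hc k)
  have hp : ∀ j k, colimit.ι (K ⋙ eval A c k) j ≫ (p k).hom = (c₀.ι.app j).f k := fun j k =>
    IsColimit.comp_coconePointUniqueUpToIso_hom _ _ j
  let e : S.map (colim (J := J) (C := A)) ≅ c₀.pt.sc i :=
    ShortComplex.isoMk (p (c.prev i)) (p i) (p (c.next i))
      (by
        refine colimit.hom_ext fun j => ?_
        simp only [ShortComplex.map_f, S]
        erw [ι_colimMap_assoc]
        rw [hp]
        erw [← Category.assoc, hp]
        exact (c₀.ι.app j).comm _ _)
      (by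
        refine colimit.hom_ext fun j => ?_
        simp only [ShortComplex.map_g, S]
        erw [ι_colimMap_assoc]
        rw [hp]
        erw [← Category.assoc, hp]
        exact (c₀.ι.app j).comm _ _)
  let e' : ∀ j, S.map ((evaluation J A).obj j) ≅ (K.obj j).sc i := fun j =>
    ShortComplex.isoMk (Iso.refl _) (Iso.refl _) (Iso.refl _)
      ((Category.id_comp _).trans (Category.comp_id _).symm) ((Category.id_comp _).trans (Category.comp_id _).symm)
  let α : ∀ j, S.homology.obj j ≅ H.obj (K.obj j) := fun j =>
    (S.mapHomologyIso ((evaluation J A).obj j)).symm ≪≫ ShortComplex.homologyMapIso (e' j)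
  let E : colimit S.homology ≅ H.obj c₀.pt :=
    (S.mapHomologyIso colim).symm ≪≫ ShortComplex.homologyMapIso e
  have hα : ∀ {j k : J} (a : j ⟶ k), S.homology.map a ≫ (α k).hom = (α j).hom ≫ H.map (K.map a) := by
    intro j k a
    let τ := (evaluation J A).map a
    let σ : (K.obj j).sc i ⟶ (K.obj k).sc i := (shortComplexFunctor A c i).map (K.map a)
    have hkey : S.mapNatTrans τ ≫ (e' k).hom = (e' j).hom ≫ σ := by
      refine ShortComplex.hom_ext _ _ ?_ ?_ ?_ <;>
      · simp [e', τ, S, σ]
    have h : ShortComplex.homologyMap (S.mapNatTrans τ) ≫ ShortComplex.homologyMap (e' k).hom =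
        ShortComplex.homologyMap (e' j).hom ≫ ShortComplex.homologyMap σ :=
      by rw [← ShortComplex.homologyMap_comp, hkey, ShortComplex.homologyMap_comp]
    rw [ShortComplex.homologyMap_mapNatTrans] at h
    dsimp only [α, Iso.trans_hom, Iso.symm_hom, ShortComplex.homologyMapIso_hom]
    rw [Category.assoc]
    erw [← h]
    simp only [Category.assoc]
    erw [Iso.inv_hom_id_assoc]
    rfl
  have hE : ∀ j, colimit.ι S.homology j ≫ E.hom = (α j).hom ≫ H.map (c₀.ι.app j) := by
    intro j
    let τ : (evaluation J A).obj j ⟶ colim :=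
      { app := fun G => colimit.ι G j
        naturality := fun G G' φ => (ι_colimMap φ j).symm }
    let σ : (K.obj j).sc i ⟶ c₀.pt.sc i := (shortComplexFunctor A c i).map (c₀.ι.app j)
    have hkey : S.mapNatTrans τ ≫ e.hom = (e' j).hom ≫ σ := by
      refine ShortComplex.hom_ext _ _ ?_ ?_ ?_ <;>
      · simp [e, e', τ, S, σ]
        exact hp _ _
    have h : ShortComplex.homologyMap (S.mapNatTrans τ) ≫ ShortComplex.homologyMap e.hom =
        ShortComplex.homologyMap (e' j).hom ≫ ShortComplex.homologyMap σ :=
      by rw [← ShortComplex.homologyMap_comp, hkey, ShortComplex.homologyMap_comp]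
    rw [ShortComplex.homologyMap_mapNatTrans] at h
    dsimp only [α, E, Iso.trans_hom, Iso.symm_hom, ShortComplex.homologyMapIso_hom]
    rw [Category.assoc]
    erw [← h]
    simp only [Category.assoc]
    erw [Iso.inv_hom_id_assoc]
    rfl
  let αn : S.homology ≅ K ⋙ H := NatIso.ofComponents α hα
  let s : Cocone S.homology := (Cocone.precompose αn.hom).obj (H.mapCocone c₀)
  have hs : IsColimit s := (colimit.isColimit S.homology).ofIsoColimit (Cocone.ext E hE)
  exact ⟨(IsColimit.precomposeHomEquiv αn (H.mapCocone c₀)) hs⟩

end GrothLib.ColimHom20
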