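import Groth.Agent.Lib.ColimHom20.Rpush
import Groth.Agent.Lib.QCoh.Abelian

/-! # Complexes with quasi-coherent cohomology -/

set_option autoImplicit false
set_option backward.isDefEq.respectTransparency false
set_option linter.style.haveILetI false
set_option maxHeartbeats 1000000
universe u

open CategoryTheory CategoryTheory.Limits AlgebraicGeometry Opposite TopologicalSpace
open GrothLib.OX (genF)

attribute [local instance] HasDerivedCategory.standard

noncomputable section

namespace GrothLib.ColimHom20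

variable {X S : Scheme.{u}} {J : Type u} [SmallCategory J] [IsFiltered J]
  (C : J ⥤ CochainComplex X.Modules ℤ) [HasColimit C]

theorem isQCohD_colimit (hC : ∀ j : J, DCoh.IsQCohD (DCoh.toD X (C.obj j))) :
    DCoh.IsQCohD (DCoh.toD X (colimit C)) := fun i => by
  obtain ⟨G, hG, ⟨eG⟩⟩ := DerCat.exists_colimit_homology C i
  have hq : ∀ j, (G.obj j).IsQuasicoherent := fun j => by
    obtain ⟨a⟩ := hG j
    exact OX.isQCoh_of_iso (a ≪≫ ((DerivedCategory.homologyFunctorFactors X.Modules i).app (C.obj j)).symm).symm (hC j i)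
  exact OX.isQCoh_of_iso (eG ≪≫ ((DerivedCategory.homologyFunctorFactors X.Modules i).app (colimit C)).symm)
    (QCoh.isQuasicoherent_colimit G hq)

theorem bijective_comp_πTruncGE_vanQ {T : X.Opens} {d : ℕ} (hT : OX.VanQ T d) (L : CochainComplex X.Modules ℤ)
    (hL : DCoh.IsQCohD (DCoh.toD X L)) (a j : ℤ) (hj : a + d ≤ j) :
    Function.Bijective (fun φ : (DerivedCategory.singleFunctor X.Modules j).obj ((genF X).obj T) ⟶
        DerivedCategory.Q.obj L => φ ≫ DerivedCategory.Q.map (L.πTruncGE a)) := by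
  obtain ⟨e, he⟩ := ProTri.exists_desc_Q_truncGE L a
  have hb := OX.bijective_comp_truncGEπ_vanQ hT hL a j hj
  have hGE : (DerivedCategory.Q.obj (L.truncGE a)).IsGE a := inferInstance
  haveI : IsIso e := by
    rw [DerivedCategory.isIso_iff]
    intro i
    by_cases hi : a ≤ i
    · have := L.quasiIsoAt_πTruncGE a i hi
      haveI : IsIso ((DerivedCategory.homologyFunctor X.Modules i).map (DerivedCategory.Q.map (L.πTruncGE a))) := by
        rw [← Functor.comp_map, NatIso.isIso_map_iff (DerivedCategory.homologyFunctorFactors X.Modules i)]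
        exact (quasiIsoAt_iff_isIso_homologyMap _ i).1 this
      haveI : IsIso ((DerivedCategory.homologyFunctor X.Modules i).map
          ((DerivedCategory.TStructure.t.truncGEπ a).app (DerivedCategory.Q.obj L))) :=
        DerTrunc.isIso_homology_truncGEπ _ a i hi
      exact IsIso.of_isIso_fac_left (((DerivedCategory.homologyFunctor X.Modules i).map_comp _ _).symm.trans
        (congrArg (DerivedCategory.homologyFunctor X.Modules i).map he))
    · exact ⟨0, (DerivedCategory.isZero_of_isGE (DerivedCategory.Q.obj (L.truncGE a)) a i (by omega)).eq_of_src _ _,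
        (DerTrunc.isZero_homology_truncGE (DerivedCategory.Q.obj L) a i (by omega)).eq_of_src _ _⟩
  refine ⟨fun φ φ' h => hb.1 ?_, fun ψ => ?_⟩
  · simp only [← he, ← Category.assoc]
    exact congrArg (· ≫ e) h
  · obtain ⟨φ, hφ⟩ := hb.2 (ψ ≫ e)
    refine ⟨φ, (cancel_mono e).1 ?_⟩
    rw [Category.assoc, he]
    exact hφ

theorem gk_famColim_of_isQCohD (f : X ⟶ S) [QuasiCompact f] [QuasiSeparated f]
    (hC : ∀ j : J, DCoh.IsQCohD (DCoh.toD X (C.obj j))) {W : S.Opens} (hW : IsAffineOpen W) (m : ℤ) :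
    GK ((genF X).obj (f ⁻¹ᵁ W)) (famColim C) m := by
  haveI := preservesColimits_ext_genF_preimage (J := J) f hW
  obtain ⟨d, hd⟩ := OX.exists_vanishFrom_preimage f hW
  have hT : OX.VanQ (f ⁻¹ᵁ W) d := fun N _ => by
    have h := hd N 1
    rwa [S.basicOpen_of_isUnit isUnit_one] at h
  let a : ℤ := m - d
  obtain ⟨g, k⟩ := gk_strictlyGE (G := (genF X).obj (f ⁻¹ᵁ W)) (famGE (famColim C) a) a
    (fun j => inferInstanceAs ((C.obj j).truncGE a |>.IsStrictlyGE a)) m
  have hpt := isQCohD_colimit C hC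
  let π := fun L : CochainComplex X.Modules ℤ => DerivedCategory.Q.map (L.πTruncGE a)
  have hbij : ∀ L : CochainComplex X.Modules ℤ, DCoh.IsQCohD (DCoh.toD X L) → Function.Bijective
      (fun φ : sgl ((genF X).obj (f ⁻¹ᵁ W)) m ⟶ DerivedCategory.Q.obj L => φ ≫ π L) :=
    fun L hL => bijective_comp_πTruncGE_vanQ hT L hL a m (by omega)
  have hnat : ∀ {L L' : CochainComplex X.Modules ℤ} (φ : L ⟶ L'),
      π L ≫ DerivedCategory.Q.map (CochainComplex.truncGEMap φ a) = DerivedCategory.Q.map φ ≫ π L' := fun {L L'} φ => by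
    rw [← Functor.map_comp, ← Functor.map_comp, CochainComplex.πTruncGE_naturality]
  refine ⟨fun x => ?_, fun j y hy => ?_⟩
  · obtain ⟨j, y, hy⟩ := g (x ≫ π (colimit C))
    obtain ⟨y', hy'⟩ := (hbij _ (hC j)).2 y
    change y' ≫ π (C.obj j) = y at hy'
    refine ⟨j, y', (hbij _ hpt).1 ?_⟩
    show (y' ≫ DerivedCategory.Q.map (colimit.ι C j)) ≫ π (colimit C) = x ≫ π (colimit C)
    rw [Category.assoc, ← hnat, ← Category.assoc, hy']
    exact hy
  · obtain ⟨l, b, hb⟩ := k j (y ≫ π (C.obj j)) (by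
      show (y ≫ π _) ≫ DerivedCategory.Q.map (CochainComplex.truncGEMap (colimit.ι C j) a) = 0
      rw [Category.assoc, hnat, ← Category.assoc]
      exact (congrArg (· ≫ π (colimit C)) hy).trans zero_comp)
    refine ⟨l, b, (hbij _ (hC l)).1 ?_⟩
    show (y ≫ DerivedCategory.Q.map (C.map b)) ≫ π (C.obj l) = 0 ≫ π (C.obj l)
    rw [zero_comp, Category.assoc, ← hnat, ← Category.assoc]
    exact hb

end GrothLib.ColimHom20
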