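import Groth.Agent.Lib.ColimHom20.Bounded
import Groth.Agent.Lib.OX.CompactBdd
import Groth.Agent.Lib.OX.RpushCoprod
import Groth.Agent.Lib.ProTri.Trunc
import Groth.Agent.Lib.DerCat.ColimitHomology

/-! # `Rf_*` and filtered colimits -/

set_option autoImplicit false
set_option backward.isDefEq.respectTransparency false
set_option linter.style.haveILetI false
set_option maxHeartbeats 1000000
universe u

open CategoryTheory CategoryTheory.Limits AlgebraicGeometry Opposite TopologicalSpace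
open GrothLib.SiteDer (theta)
open GrothLib.OX (genF isLocGen_genF rmor RR)

attribute [local instance] HasDerivedCategory.standard

noncomputable section

namespace GrothLib.ColimHom20

variable {X S : Scheme.{u}} {J : Type u} [SmallCategory J] [IsFiltered J]

/-- `Ext` out of the generator at a compact quasi-separated open commutes with filtered colimits. -/
theorem preservesColimits_ext_genF {U : X.Opens} (hUc : IsCompact (U : Set X))
    (hU : IsQuasiSeparated (U : Set X)) (p : ℕ) :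
    PreservesColimitsOfShape J (Abelian.extFunctorObj.{u} ((genF X).obj U) p) := by
  obtain ⟨e⟩ := OX.nonempty_extGenIso (X := X) U p
  have := SheafCoh.preservesColimitsOfSize_toSheaf.{u} X.ringCatSheaf
  have h1 : PreservesColimitsOfShape J
      ((Sheaf.cohomologyPresheafFunctor (Opens.grothendieckTopology X.carrier) p).flip.obj (op U)) :=
    ⟨fun {K} => ColimCoh.preservesColimit_cohomology_of_isQuasiSeparated hU hUc K p⟩
  have : PreservesColimitsOfShape J (SheafOfModules.toSheaf.{u} X.ringCatSheaf) := this.preservesColimitsOfShape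
  have : PreservesColimitsOfShape J (OX.secCohFun X p U) :=
    @comp_preservesColimitsOfShape _ _ _ _ _ _ _ _ _ _ this h1
  exact preservesColimitsOfShape_of_natIso e.symm

theorem preservesColimits_ext_genF_preimage (f : X ⟶ S) [QuasiCompact f] [QuasiSeparated f] {W : S.Opens}
    (hW : IsAffineOpen W) (p : ℕ) :
    PreservesColimitsOfShape J (Abelian.extFunctorObj.{u} ((genF X).obj (f ⁻¹ᵁ W)) p) :=
  preservesColimits_ext_genF (QuasiCompact.isCompact_preimage (f := f) (W : Set S) W.isOpen hW.isCompact)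
    (f.isQuasiSeparated_preimage hW.isQuasiSeparated) p

/-- A map from a generator at a compact quasi-separated open into a filtered colimit comes from a stage,
and dies at a stage if it is zero. -/
theorem hom_genF_colimit {U : X.Opens} (hUc : IsCompact (U : Set X)) (hU : IsQuasiSeparated (U : Set X))
    {D : J ⥤ X.Modules} {c : Cocone D} (hc : IsColimit c) :
    (∀ g : (genF X).obj U ⟶ c.pt, ∃ (j : J) (g' : (genF X).obj U ⟶ D.obj j), g' ≫ c.ι.app j = g) ∧
      ∀ (j : J) (g : (genF X).obj U ⟶ D.obj j), g ≫ c.ι.app j = 0 → ∃ (k : J) (a : j ⟶ k), g ≫ D.map a = 0 := by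
  haveI := preservesColimits_ext_genF (J := J) hUc hU 0
  let E := Abelian.extFunctorObj.{u} ((genF X).obj U) 0
  have hl : IsColimit (E.mapCocone c) := isColimitOfPreserves E hc
  have key : ∀ {M N : X.Modules} (φ : M ⟶ N) (g : (genF X).obj U ⟶ M),
      E.map φ (Abelian.Ext.mk₀ g) = Abelian.Ext.mk₀ (g ≫ φ) := fun φ g => Abelian.Ext.mk₀_comp_mk₀ g φ
  refine ⟨fun g => ?_, fun j g hg => ?_⟩
  · obtain ⟨j, z, hz⟩ := Concrete.isColimit_exists_rep _ hl (Abelian.Ext.mk₀ g)
    obtain ⟨g', rfl⟩ := (Abelian.Ext.mk₀_bijective _ _).2 z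
    exact ⟨j, g', (Abelian.Ext.mk₀_bijective _ _).1 ((key (c.ι.app j) g').symm.trans hz)⟩
  · have h0 : (E.mapCocone c).ι.app j (Abelian.Ext.mk₀ g) = (E.mapCocone c).ι.app j 0 := by
      rw [map_zero]
      exact (key (c.ι.app j) g).trans ((congrArg Abelian.Ext.mk₀ hg).trans (Abelian.Ext.mk₀_zero _ _))
    obtain ⟨k, a, hk⟩ := (Types.FilteredColimit.isColimit_eq_iff'
      (isColimitOfPreserves (forget AddCommGrpCat.{u}) hl) (Abelian.Ext.mk₀ g) 0).1 h0
    refine ⟨k, a, (Abelian.Ext.mk₀_bijective _ _).1 ?_⟩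
    refine (key (D.map a) g).symm.trans (hk.trans ?_)
    exact (map_zero (E.map (D.map a)).hom).trans (Abelian.Ext.mk₀_zero _ _).symm

variable (C : J ⥤ CochainComplex X.Modules ℤ) [HasColimit C]

/-- The family of a diagram of complexes and its colimit. -/
def famColim : Fam X.Modules J where
  K := C
  c := colimit.cocone C
  hc i := isColimitOfPreserves (HomologicalComplex.eval X.Modules (ComplexShape.up ℤ) i) (colimit.isColimit C)

/-- The comparison from the colimit of the cohomologies of `Rf_*` to that of `Rf_*` of the colimit. -/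
def cmpMap (f : X ⟶ S) (i : ℤ) :
    colimit (C ⋙ DerivedCategory.Q ⋙ RR f ⋙ DerivedCategory.homologyFunctor S.Modules i) ⟶
      (DerivedCategory.Q ⋙ RR f ⋙ DerivedCategory.homologyFunctor S.Modules i).obj (colimit C) :=
  colimit.desc _ ((DerivedCategory.Q ⋙ RR f ⋙ DerivedCategory.homologyFunctor S.Modules i).mapCocone
    (colimit.cocone C))

theorem isIso_cmpMap (f : X ⟶ S) (i : ℤ)
    (hgk : ∀ W : S.Opens, IsAffineOpen W → GK ((genF X).obj (f ⁻¹ᵁ W)) (famColim C) i) :
    IsIso (cmpMap C f i) := by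
  refine OX.isIso_of_restrict_cover _ (fun V : S.affineOpens => V.1) (fun x => ?_) fun V => ?_
  · obtain ⟨U, hU, hx, -⟩ := exists_isAffineOpen_mem_and_subset (x := x) (U := ⊤) trivial
    exact ⟨⟨U, hU⟩, hx⟩
  let Jt := Opens.grothendieckTopology S.carrier
  have hG := isLocGen_genF (X := S)
  let H' := DerivedCategory.Q ⋙ RR f ⋙ DerivedCategory.homologyFunctor S.Modules i
  let D := C ⋙ H'
  let ψ := cmpMap C f i
  have hι : ∀ j, colimit.ι D j ≫ ψ = (DerivedCategory.homologyFunctor S.Modules i).map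
      ((RR f).map (DerivedCategory.Q.map (colimit.ι C j))) := fun j => colimit.ι_desc _ _
  let e : ∀ (W : S.Opens) (E : DCoh.D X),
      ((DerivedCategory.singleFunctor S.Modules i).obj ((genF S).obj W) ⟶ (RR f).obj E) ≃
        ((DerivedCategory.singleFunctor X.Modules i).obj ((genF X).obj (f ⁻¹ᵁ W)) ⟶ E) :=
    fun W E => SiteDer.pushHomEquiv (rmor f) W i E
  have he : ∀ (W : S.Opens) {E E' : DCoh.D X} (a : E ⟶ E') (φ), e W E' (φ ≫ (RR f).map a) = e W E φ ≫ a :=
    fun W {E E'} a φ => SiteDer.pushHomEquiv_comp (rmor f) W i a φ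
  have he0 : ∀ (W : S.Opens) (E : DCoh.D X), e W E 0 = 0 := fun W E => SiteDer.pushHomEquiv_zero (rmor f) W i E
  have hbas : ∀ W : S.Opens, W ≤ V.1 → ∀ {P : ∀ ⦃W' : S.Opens⦄, (W' ⟶ W) → Prop},
      (∀ ⦃W' W''⦄ (a : W' ⟶ W) (b : W'' ⟶ W'), P a → P (b ≫ a)) →
      (∀ (W' : S.Opens) (hW' : W' ≤ W), IsAffineOpen W' → P (homOfLE hW')) → SiteDer.Locally Jt W P := by
    intro W _ P hP hb
    refine SiteDer.Locally.trans_family hP (ι := {W' : S.affineOpens // W'.1 ≤ W})
      (fun W' => homOfLE W'.2) (fun x hx => ?_)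
      fun W' => SiteDer.Locally.of_forall fun T b => hP _ b (hb _ W'.2 W'.1.2)
    obtain ⟨W', hW', hxW', hle⟩ := exists_isAffineOpen_mem_and_subset (x := x) (U := W) hx
    exact ⟨W', homOfLE hle, Sieve.ofArrows_mk (fun W' : {W' : S.affineOpens // W'.1 ≤ W} => W'.1.1)
      (fun W' => homOfLE W'.2) ⟨⟨W', hW'⟩, hle⟩, hxW'⟩
  have hst : ∀ {W : S.Opens} {M : S.Modules} (g : (genF S).obj W ⟶ M) ⦃W' W'' : S.Opens⦄ (a : W' ⟶ W)
      (b : W'' ⟶ W'), (genF S).map a ≫ g = 0 → (genF S).map (b ≫ a) ≫ g = 0 := fun g W' W'' a b h => by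
    rw [Functor.map_comp, Category.assoc, h, comp_zero]
  refine OX.isIso_restrict_of_gen ψ V.1 (fun W hW g hg => hG.sep g ?_) fun W hW g => ?_
  · refine hbas W hW (hst g) fun W₁ hW₁ hA => ?_
    obtain ⟨j, g₁, hg₁⟩ := (hom_genF_colimit hA.isCompact hA.isQuasiSeparated (colimit.isColimit D)).1
      ((genF S).map (homOfLE hW₁) ≫ g)
    apply hG.sep
    obtain ⟨T, hT, hTP⟩ := hG.exists_theta g₁
    refine SiteDer.Locally.trans (hst _) hT fun W₂ a₂ ha₂ => ?_
    obtain ⟨φ, hφ⟩ := hTP a₂ ha₂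
    have h0 : theta (φ ≫ (RR f).map (DerivedCategory.Q.map (colimit.ι C j))) = 0 := by
      rw [SiteDer.theta_comp, hφ, ← hι, Category.assoc]
      erw [reassoc_of% hg₁, hg]
      simp
    obtain ⟨T', hT', hT'P⟩ := hG.eq_zero_of_theta _ h0
    refine SiteDer.Locally.trans (fun W' W'' b c h => by
      rw [Category.assoc]; exact hst _ _ c h) hT' fun W₃ a₃ ha₃ => ?_
    refine hbas W₃ (a₃.le.trans (a₂.le.trans (hW₁.trans hW))) (fun W' W'' b c h => by
      rw [Category.assoc]; exact hst _ _ c h) fun W₄ hW₄ hA₄ => ?_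
    let φ₄ := (DerivedCategory.singleFunctor S.Modules i).map ((genF S).map (homOfLE hW₄ ≫ a₃)) ≫ φ
    have h₄ : e W₄ _ φ₄ ≫ DerivedCategory.Q.map (colimit.ι C j) = 0 := by
      rw [← he, Category.assoc, Functor.map_comp, Functor.map_comp, Category.assoc, hT'P a₃ ha₃, comp_zero, he0]
    obtain ⟨k, b, hb⟩ := (hgk W₄ hA₄).2 j (e W₄ _ φ₄) h₄
    have hb' : φ₄ ≫ (RR f).map (DerivedCategory.Q.map (C.map b)) = 0 :=
      (e W₄ _).injective ((he W₄ _ φ₄).trans (hb.trans (he0 _ _).symm))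
    have h₅ : theta φ₄ ≫ D.map b = 0 := by
      rw [show D.map b = (DerivedCategory.homologyFunctor S.Modules i).map
        ((RR f).map (DerivedCategory.Q.map (C.map b))) from rfl, ← SiteDer.theta_comp, hb', SiteDer.theta_zero]
    calc (genF S).map ((homOfLE hW₄ ≫ a₃) ≫ a₂) ≫ (genF S).map (homOfLE hW₁) ≫ g
        = ((genF S).map (homOfLE hW₄ ≫ a₃) ≫ (genF S).map a₂ ≫ g₁) ≫ colimit.ι D j := by
          simp only [Functor.map_comp, Category.assoc]
          erw [hg₁]
      _ = theta φ₄ ≫ colimit.ι D j := by rw [SiteDer.theta_map_comp, hφ]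
      _ = 0 := by rw [← colimit.w D b, reassoc_of% h₅, zero_comp]
  · have hst' : ∀ ⦃W' W'' : S.Opens⦄ (a : W' ⟶ W) (b : W'' ⟶ W'),
        (∃ g' : _ ⟶ colimit D, g' ≫ ψ = (genF S).map a ≫ g) →
        ∃ g' : _ ⟶ colimit D, g' ≫ ψ = (genF S).map (b ≫ a) ≫ g := fun W' W'' a b ⟨g', hg'⟩ =>
      ⟨(genF S).map b ≫ g', by rw [Category.assoc, hg', Functor.map_comp, Category.assoc]⟩
    obtain ⟨T, hT, hTP⟩ := hG.exists_theta g
    refine SiteDer.Locally.trans hst' hT fun W₂ a₂ ha₂ => ?_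
    obtain ⟨φ, hφ⟩ := hTP a₂ ha₂
    refine hbas W₂ (a₂.le.trans hW) (fun W' W'' b c h => by
      rw [Category.assoc]; exact hst' _ c h) fun W₄ hW₄ hA₄ => ?_
    let φ₄ := (DerivedCategory.singleFunctor S.Modules i).map ((genF S).map (homOfLE hW₄)) ≫ φ
    obtain ⟨j, y, hy⟩ := (hgk W₄ hA₄).1 (e W₄ _ φ₄)
    have hy' : (e W₄ _).symm y ≫ (RR f).map (DerivedCategory.Q.map (colimit.ι C j)) = φ₄ :=
      (e W₄ _).injective ((he W₄ _ _).trans ((congrArg (· ≫ _) ((e W₄ _).apply_symm_apply y)).trans hy))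
    refine ⟨theta ((e W₄ _).symm y) ≫ colimit.ι D j, ?_⟩
    rw [Category.assoc, hι, ← SiteDer.theta_comp, hy', SiteDer.theta_map_comp, hφ, Functor.map_comp,
      Category.assoc]

/-- The cohomology of `Rf_*` of the colimit cocone, through K-injective resolutions. -/
theorem nonempty_isColimit_RR (f : X ⟶ S) (i : ℤ)
    (hgk : ∀ W : S.Opens, IsAffineOpen W → GK ((genF X).obj (f ⁻¹ᵁ W)) (famColim C) i) :
    Nonempty (IsColimit ((DerivedCategory.Q ⋙ RR f ⋙ DerivedCategory.homologyFunctor S.Modules i).mapCocone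
      (colimit.cocone C))) := by
  haveI := isIso_cmpMap C f i hgk
  let H' := DerivedCategory.Q ⋙ RR f ⋙ DerivedCategory.homologyFunctor S.Modules i
  haveI : IsIso ((colimit.isColimit (C ⋙ H')).desc (H'.mapCocone (colimit.cocone C))) :=
    inferInstanceAs (IsIso (cmpMap C f i))
  exact ⟨(colimit.isColimit (C ⋙ H')).ofPointIso⟩

theorem nonempty_isColimit_Rpush (f : X ⟶ S) [DCoh.HasRpush f] (i : ℤ)
    (hgk : ∀ W : S.Opens, IsAffineOpen W → GK ((genF X).obj (f ⁻¹ᵁ W)) (famColim C) i) :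
    Nonempty (IsColimit ((DerivedCategory.Q ⋙ DCoh.Rpush f ⋙ DerivedCategory.homologyFunctor S.Modules i).mapCocone
      (colimit.cocone C))) := by
  obtain ⟨h⟩ := nonempty_isColimit_RR C f i hgk
  let α : (DerivedCategory.Q ⋙ DCoh.Rpush f ⋙ DerivedCategory.homologyFunctor S.Modules i) ≅
      (DerivedCategory.Q ⋙ RR f ⋙ DerivedCategory.homologyFunctor S.Modules i) :=
    Functor.isoWhiskerLeft _ (Functor.isoWhiskerRight (OX.rpushIsoRres f) _)
  exact ⟨IsColimit.mapCoconeEquiv α.symm h⟩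

theorem gk_famColim_of_isGE (f : X ⟶ S) [QuasiCompact f] [QuasiSeparated f] (n : ℤ)
    (hC : ∀ j : J, (DCoh.toD X (C.obj j)).IsGE n) {W : S.Opens} (hW : IsAffineOpen W) (m : ℤ) :
    GK ((genF X).obj (f ⁻¹ᵁ W)) (famColim C) m := by
  haveI := preservesColimits_ext_genF_preimage (J := J) f hW
  have hK : ∀ j, (C.obj j).IsGE n := fun j => (DerivedCategory.isGE_Q_obj_iff (C.obj j) n).1 (hC j)
  refine gk_isGE (famColim C) n hK ((CochainComplex.isGE_iff _ n).2 fun i hi => ?_) m
  rw [HomologicalComplex.exactAt_iff_isZero_homology]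
  obtain ⟨G, hG, ⟨eG⟩⟩ := DerCat.exists_colimit_homology C i
  refine IsZero.of_iso ?_ eG.symm
  rw [IsZero.iff_id_eq_zero]
  refine colimit.hom_ext fun j => ?_
  obtain ⟨a⟩ := hG j
  haveI := hK j
  refine ((IsZero.of_iso ?_ a).eq_of_src _ _)
  exact ((C.obj j).exactAt_of_isGE n i hi).isZero_homology

end GrothLib.ColimHom20
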