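import Groth.Agent.Lib.ColimHom20.Rpush
import Groth.Agent.Lib.ColimHom20.HomologyColim

/-! # Acyclicity for `f_*` of a filtered colimit -/

set_option autoImplicit false
set_option backward.isDefEq.respectTransparency false
set_option linter.style.haveILetI false
set_option maxHeartbeats 1000000
universe u

open CategoryTheory CategoryTheory.Limits AlgebraicGeometry Opposite TopologicalSpace
open GrothLib.OX (genF genSec isLocGen_genF)

attribute [local instance] HasDerivedCategory.standard

noncomputable section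

namespace GrothLib.ColimHom20

variable {X S : Scheme.{u}} {J : Type u} [SmallCategory J] [IsFiltered J] (f : X ⟶ S)

/-- Maps from a generator into a direct image. -/
def genPush (W : S.Opens) (M : X.Modules) :
    ((genF S).obj W ⟶ (Scheme.Modules.pushforward f).obj M) ≃ ((genF X).obj (f ⁻¹ᵁ W) ⟶ M) :=
  (show ((genF S).obj W ⟶ (Scheme.Modules.pushforward f).obj M) ≃ Γ(M, f ⁻¹ᵁ W) from
    genSec ((Scheme.Modules.pushforward f).obj M) W).trans (genSec M (f ⁻¹ᵁ W)).symm

theorem genSec_genPush (W : S.Opens) (M : X.Modules) (g : (genF S).obj W ⟶ (Scheme.Modules.pushforward f).obj M) :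
    genSec M (f ⁻¹ᵁ W) (genPush f W M g) = genSec ((Scheme.Modules.pushforward f).obj M) W g :=
  (genSec M (f ⁻¹ᵁ W)).apply_symm_apply _

theorem genPush_comp (W : S.Opens) {M N : X.Modules} (a : M ⟶ N)
    (g : (genF S).obj W ⟶ (Scheme.Modules.pushforward f).obj M) :
    genPush f W N (g ≫ (Scheme.Modules.pushforward f).map a) = genPush f W M g ≫ a := by
  apply (genSec N (f ⁻¹ᵁ W)).injective
  refine (genSec_genPush f W N _).trans ((SiteDer.secMod_comp W g _).trans ?_)
  exact (congrArg _ (genSec_genPush f W M g)).symm.trans (SiteDer.secMod_comp _ _ a).symm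

theorem genPush_zero (W : S.Opens) (M : X.Modules) : genPush f W M 0 = 0 := by
  apply (genSec M (f ⁻¹ᵁ W)).injective
  exact (genSec_genPush f W M 0).trans ((SiteDer.secMod_zero _ _).trans (SiteDer.secMod_zero _ _).symm)

/-- Direct images along quasi-compact quasi-separated morphisms commute with filtered colimits. -/
theorem preservesColimitsOfShape_pushforward [QuasiCompact f] [QuasiSeparated f] :
    PreservesColimitsOfShape J (Scheme.Modules.pushforward f) := by
  refine ⟨fun {D} => preservesColimit_of_preserves_colimit_cocone (colimit.isColimit D) ?_⟩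
  let P := Scheme.Modules.pushforward f
  let ψ := (colimit.isColimit (D ⋙ P)).desc (P.mapCocone (colimit.cocone D))
  have hι : ∀ j, colimit.ι (D ⋙ P) j ≫ ψ = P.map (colimit.ι D j) := fun j =>
    (colimit.isColimit (D ⋙ P)).fac (P.mapCocone (colimit.cocone D)) j
  suffices IsIso ψ from (colimit.isColimit (D ⋙ P)).ofPointIso
  refine OX.isIso_of_restrict_cover _ (fun V : S.affineOpens => V.1) (fun x => ?_) fun V => ?_
  · obtain ⟨U, hU, hx, -⟩ := exists_isAffineOpen_mem_and_subset (x := x) (U := ⊤) trivial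
    exact ⟨⟨U, hU⟩, hx⟩
  have hG := isLocGen_genF (X := S)
  have hbas : ∀ W : S.Opens, ∀ {Q : ∀ ⦃W' : S.Opens⦄, (W' ⟶ W) → Prop},
      (∀ ⦃W' W''⦄ (a : W' ⟶ W) (b : W'' ⟶ W'), Q a → Q (b ≫ a)) →
      (∀ (W' : S.Opens) (hW' : W' ≤ W), IsAffineOpen W' → Q (homOfLE hW')) →
      SiteDer.Locally (Opens.grothendieckTopology S.carrier) W Q := by
    intro W Q hQ hb
    refine SiteDer.Locally.trans_family hQ (ι := {W' : S.affineOpens // W'.1 ≤ W})
      (fun W' => homOfLE W'.2) (fun x hx => ?_)
      fun W' => SiteDer.Locally.of_forall fun T b => hQ _ b (hb _ W'.2 W'.1.2)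
    obtain ⟨W', hW', hxW', hle⟩ := exists_isAffineOpen_mem_and_subset (x := x) (U := W) hx
    exact ⟨W', homOfLE hle, Sieve.ofArrows_mk (fun W' : {W' : S.affineOpens // W'.1 ≤ W} => W'.1.1)
      (fun W' => homOfLE W'.2) ⟨⟨W', hW'⟩, hle⟩, hxW'⟩
  refine OX.isIso_restrict_of_gen ψ V.1 (fun W _ g hg => hG.sep g (hbas W (fun W' W'' a b h => by
    rw [Functor.map_comp, Category.assoc, h, comp_zero]) fun W₁ hW₁ hA => ?_)) fun W _ g => ?_
  · obtain ⟨j, g₁, hg₁⟩ := (hom_genF_colimit hA.isCompact hA.isQuasiSeparated (colimit.isColimit (D ⋙ P))).1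
      ((genF S).map (homOfLE hW₁) ≫ g)
    change g₁ ≫ colimit.ι (D ⋙ P) j = _ at hg₁
    have h0 : genPush f W₁ _ g₁ ≫ colimit.ι D j = 0 := by
      rw [← genPush_comp, ← hι, ← Category.assoc, hg₁, Category.assoc, hg, comp_zero, genPush_zero]
    obtain ⟨k, a, ha⟩ := (hom_genF_colimit (QuasiCompact.isCompact_preimage (f := f) (W₁ : Set S) W₁.isOpen hA.isCompact)
      (f.isQuasiSeparated_preimage hA.isQuasiSeparated) (colimit.isColimit D)).2 j _ h0
    have ha' : g₁ ≫ P.map (D.map a) = 0 :=
      (genPush f W₁ _).injective ((genPush_comp f W₁ _ _).trans (ha.trans (genPush_zero f W₁ _).symm))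
    rw [← hg₁, ← colimit.w (D ⋙ P) a, Functor.comp_map, reassoc_of% ha', zero_comp]
  · refine hbas W (fun W' W'' a b ⟨g', hg'⟩ => ⟨(genF S).map b ≫ g', by
      rw [Category.assoc, hg', Functor.map_comp, Category.assoc]⟩) fun W₁ hW₁ hA => ?_
    obtain ⟨j, y, hy⟩ := (hom_genF_colimit (QuasiCompact.isCompact_preimage (f := f) (W₁ : Set S) W₁.isOpen hA.isCompact)
      (f.isQuasiSeparated_preimage hA.isQuasiSeparated) (colimit.isColimit D)).1
      (genPush f W₁ _ ((genF S).map (homOfLE hW₁) ≫ g))
    refine ⟨(genPush f W₁ _).symm y ≫ colimit.ι (D ⋙ P) j, ?_⟩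
    rw [Category.assoc, hι]
    apply (genPush f W₁ _).injective
    exact (genPush_comp f W₁ _ _).trans ((congrArg (· ≫ _) ((genPush f W₁ _).apply_symm_apply y)).trans hy)

/-- A natural map between two functors taking a cocone to colimit cocones, iso on the diagram, is iso at
the point. -/
theorem isIso_app_pt {A B : Type*} [Category A] [Category B] {L R : A ⥤ B} (η : L ⟶ R) {K : J ⥤ A} (c : Cocone K)
    (hL : IsColimit (L.mapCocone c)) (hR : IsColimit (R.mapCocone c)) [∀ j, IsIso (η.app (K.obj j))] :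
    IsIso (η.app c.pt) := by
  haveI : ∀ j, IsIso ((Functor.whiskerLeft K η).app j) := fun j => inferInstanceAs (IsIso (η.app (K.obj j)))
  haveI : IsIso (Functor.whiskerLeft K η) := NatIso.isIso_of_isIso_app _
  let w := asIso (Functor.whiskerLeft K η)
  let e := IsColimit.coconePointsIsoOfNatIso hL hR (asIso (Functor.whiskerLeft K η))
  have : η.app c.pt = e.hom := hL.hom_ext fun j =>
    (η.naturality (c.ι.app j)).trans (IsColimit.comp_coconePointsIsoOfNatIso_hom hL hR w j).symm
  rw [this]
  infer_instance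

variable (C : J ⥤ CochainComplex X.Modules ℤ) [HasColimit C]

theorem isIso_unit_colimit [QuasiCompact f] [QuasiSeparated f] [DCoh.HasRpush f] (n : ℤ)
    (hC : ∀ j : J, (DCoh.toD X (C.obj j)).IsGE n)
    (hac : ∀ j : J, IsIso (((DCoh.pushKh f).totalRightDerivedUnit DerivedCategory.Qh
      (HomotopyCategory.quasiIso X.Modules (ComplexShape.up ℤ))).app
      ((HomotopyCategory.quotient X.Modules (ComplexShape.up ℤ)).obj (C.obj j)))) :
    IsIso (((DCoh.pushKh f).totalRightDerivedUnit DerivedCategory.Qh
      (HomotopyCategory.quasiIso X.Modules (ComplexShape.up ℤ))).app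
      ((HomotopyCategory.quotient X.Modules (ComplexShape.up ℤ)).obj (colimit C))) := by
  refine (DerivedCategory.isIso_iff (C := S.Modules) _).2 fun i => ?_
  let P := Scheme.Modules.pushforward f
  let η : HomotopyCategory.quotient X.Modules (ComplexShape.up ℤ) ⋙ DCoh.pushKh f ⋙
      DerivedCategory.homologyFunctor S.Modules i ⟶
      HomotopyCategory.quotient X.Modules (ComplexShape.up ℤ) ⋙ DerivedCategory.Qh ⋙ DCoh.Rpush f ⋙
        DerivedCategory.homologyFunctor S.Modules i :=
    Functor.whiskerLeft (HomotopyCategory.quotient X.Modules (ComplexShape.up ℤ))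
      (Functor.whiskerRight ((DCoh.pushKh f).totalRightDerivedUnit DerivedCategory.Qh
        (HomotopyCategory.quasiIso X.Modules (ComplexShape.up ℤ))) (DerivedCategory.homologyFunctor S.Modules i))
  haveI : ∀ j, IsIso (η.app (C.obj j)) := fun j =>
    haveI := hac j
    inferInstanceAs (IsIso ((DerivedCategory.homologyFunctor S.Modules i).map _))
  haveI := preservesColimitsOfShape_pushforward (J := J) f
  let PC := P.mapHomologicalComplex (ComplexShape.up ℤ)
  obtain ⟨hL₀⟩ := nonempty_isColimit_homology (PC.mapCocone (colimit.cocone C))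
    (fun k => isColimitOfPreserves P ((famColim C).hc k)) i
  let β : PC ⋙ HomologicalComplex.homologyFunctor S.Modules (ComplexShape.up ℤ) i ≅
      HomotopyCategory.quotient X.Modules (ComplexShape.up ℤ) ⋙ DCoh.pushKh f ⋙
        DerivedCategory.homologyFunctor S.Modules i :=
    NatIso.ofComponents (fun K => ((DerivedCategory.homologyFunctorFactors S.Modules i).app (PC.obj K)).symm)
      (fun φ => (DerivedCategory.homologyFunctorFactors S.Modules i).inv.naturality (PC.map φ))
  obtain ⟨hR⟩ := nonempty_isColimit_Rpush C f i fun W hW => gk_famColim_of_isGE C f n hC hW i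
  let γ : DerivedCategory.Q ⋙ DCoh.Rpush f ⋙ DerivedCategory.homologyFunctor S.Modules i ≅
      HomotopyCategory.quotient X.Modules (ComplexShape.up ℤ) ⋙ DerivedCategory.Qh ⋙ DCoh.Rpush f ⋙
        DerivedCategory.homologyFunctor S.Modules i :=
    Functor.isoWhiskerRight (DerivedCategory.quotientCompQhIso X.Modules).symm _
  exact isIso_app_pt η (colimit.cocone C) (IsColimit.mapCoconeEquiv β hL₀) (IsColimit.mapCoconeEquiv γ hR)

end GrothLib.ColimHom20
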